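import Cfsg.Agent.LyLower.CertTwo
import Cfsg.Agent.LyLower.CertThree
import Cfsg.Agent.LyLower.CertPrimes
import Cfsg.Agent.LyG2.Main

/-!
# The order of the Lyons group is a multiple of 51765179004000000

`2^8`, `3^7`, 11, 37 and 67 divide the order of the image in the representation of degree 111; the
rest comes from the subgroup isomorphic to `G₂(5)`.
-/

set_option autoImplicit false

namespace CfsgLib.LyLower

open CfsgLib.LyG2 CfsgLib.CosetEnum Cfsg.Spor
open scoped MatrixGroups

theorem letter_mem : ∀ x, x < 10 → Rep.letter x ∈ Rep.hom.range := by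
  have h : ∀ g : Ly.Gen, prodw Rep.letter (Rep.genWord g) ∈ Rep.hom.range := fun g =>
    ⟨PresentedGroup.of g, PresentedGroup.toGroup.of _⟩
  have he : ∀ i, i < 5 → Rep.letter (2 * i) ∈ Rep.hom.range := by
    intro i hi
    interval_cases i
    exacts [by simpa [Rep.genWord, prodw] using h .a, by simpa [Rep.genWord, prodw] using h .b,
      by simpa [Rep.genWord, prodw] using h .c, by simpa [Rep.genWord, prodw] using h .d,
      by simpa [Rep.genWord, prodw] using h .z]
  intro x hx
  obtain ⟨i, rfl | rfl⟩ := Nat.even_or_odd' x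
  · exact he i (by omega)
  · have e : Rep.letter (2 * i + 1) = (Rep.letter (2 * i))⁻¹ := by
      rw [Rep.letter, Rep.letter, lv_eq, lv_eq, if_neg (by omega), if_pos (by omega),
        show (2 * i + 1) / 2 = 2 * i / 2 by omega]
    rw [e]; exact inv_mem (he i (by omega))

/-- The letters in the image. -/
noncomputable def lettersR : List Rep.hom.range :=
  List.ofFn fun i : Fin 10 => ⟨Rep.letter i, letter_mem i i.2⟩

/-- The matrices of the image. -/
def coeR : Rep.hom.range →* Matrix (Fin 111) (Fin 111) (ZMod 5) :=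
  (Units.coeHom _).comp Rep.hom.range.subtype

theorem coeR_injective : Function.Injective coeR := fun _ _ e => Subtype.ext (Units.ext e)

theorem map_lettersR : lettersR.map coeR = (List.ofFn fun i : Fin 10 => Rep.tabs i).map (toX 111) := by
  rw [lettersR, List.map_ofFn, List.map_ofFn]
  congr 1
  funext i
  exact Rep.coe_letter i.2

theorem rowOK {v : ℕ} (h : chkRow v = true) : ∀ s < 111, dig v s < 8 := fun s hs => by
  simp only [chkRow, List.all_eq_true, List.mem_range] at h
  exact Nat.le_of_ble_eq_true (h s hs)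

theorem pow_dvd_range {prog : List (ℕ × ℕ)} {p v : ℕ} [Fact p.Prime] {links : List Link} {L : List ℕ}
    (hL : ∀ A ∈ L, ∀ s < 111 * 111, dig A s < 8)
    (hE : (evalP prog lettersR).map coeR = L.map (toX 111)) (hv : chkRow v = true)
    (h : chain 111 (masks 111).hi3 (masks 111).hi9 (Nat.mul 511 (repOne (Nat.mul 111 111)))
      (colMask 111) (oneX 111) L p v [] [v] links = true) :
    p ^ links.length ∣ Nat.card Rep.hom.range := by
  haveI : Finite (GL (Fin 111) (ZMod 5)) := inferInstance
  have hv' := rowOK hv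
  have := chain_sound (by norm_num) (masks 111) coeR coeR_injective (toX_oneX Rep.one_ok)
    (dig_oneX_lt Rep.one_ok) hv' (evalP prog lettersR) L hE hL links [] [v] ⊥ 1 (by simp) ?_ (one_dvd _)
    (by simpa using hv') ?_ h
  · rwa [one_mul] at this
  · symm
    rw [Subgroup.closure_eq_bot_iff]
    rintro g ⟨i, hi, -⟩
    simp at hi
  · intro g hg
    rw [Subgroup.mem_bot.1 hg, map_one, Matrix.vecMul_one]
    exact ⟨v, List.mem_cons_self, rfl⟩

theorem dvd_of_cert {prog : List (ℕ × ℕ)} {cs : List (ℕ × ℕ × List Link)}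
    (h : cert prog cs = true) {p v : ℕ} [Fact p.Prime] {links : List Link}
    (hq : (p, v, links) ∈ cs) : p ^ links.length ∣ Nat.card Cfsg.Spor.Ly := by
  simp only [cert, force_eq, Bool.and_eq_true, List.all_eq_true] at h
  obtain ⟨⟨hok, hrow⟩, hrun⟩ := h
  obtain ⟨L, hev, hL, hk⟩ := run_sound (N := 111) (by norm_num) (masks 111) prog
    (List.ofFn fun i : Fin 10 => Rep.tabs i) _ (by rw [List.length_ofFn]; exact hok)
    map_lettersR (fun A hA => by
      obtain ⟨i, rfl⟩ := List.mem_ofFn.1 hA
      exact dig_of_goodX (Rep.good_of_lt i.2)) hrun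
  rw [evalP_map] at hev
  exact (pow_dvd_range hL hev (hrow _ hq) (List.all_eq_true.1 hk _ hq)).trans
    (Subgroup.card_range_dvd Rep.hom)

theorem card_dvd : 51765179004000000 ∣ Nat.card Cfsg.Spor.Ly := by
  haveI : Fact (Nat.Prime 3) := ⟨by norm_num⟩
  haveI : Fact (Nat.Prime 11) := ⟨by norm_num⟩
  haveI : Fact (Nat.Prime 37) := ⟨by norm_num⟩
  haveI : Fact (Nat.Prime 67) := ⟨by norm_num⟩
  have d2 := dvd_of_cert certTwo_ok (p := 2) (v := row2) (links := links2) List.mem_cons_self
  have d3 := dvd_of_cert certThree_ok (p := 3) (v := row3) (links := links3) List.mem_cons_self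
  have d11 := dvd_of_cert certPrimes_ok (p := 11) (v := row11) (links := links11) List.mem_cons_self
  have d37 := dvd_of_cert certPrimes_ok (p := 37) (v := row37) (links := links37)
    (List.mem_cons_of_mem _ List.mem_cons_self)
  have d67 := dvd_of_cert certPrimes_ok (p := 67) (v := row67) (links := links67)
    (List.mem_cons_of_mem _ (List.mem_cons_of_mem _ List.mem_cons_self))
  rw [show links2.length = 8 by rfl] at d2
  rw [show links3.length = 7 by rfl] at d3
  rw [show links11.length = 1 by rfl] at d11
  rw [show links37.length = 1 by rfl] at d37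
  rw [show links67.length = 1 by rfl] at d67
  have dH : 5859000000 ∣ Nat.card Cfsg.Spor.Ly := by
    obtain ⟨E⟩ := nonempty_equiv_sub
    rw [← G14.card_target, ← Nat.card_congr E.toEquiv]
    exact Subgroup.card_subgroup_dvd_card _
  have := Nat.lcm_dvd (Nat.lcm_dvd (Nat.lcm_dvd (Nat.lcm_dvd (Nat.lcm_dvd d2 d3) d11) d37) d67) dH
  norm_num at this
  exact this

end CfsgLib.LyLower
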