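import Cfsg.Agent.LyLower.Checker
import Cfsg.Agent.LyLower.Data
import Cfsg.Agent.LyG2.Rep.Tabs

/-!
# Kernel evaluation of the certificate for the lower bound on the order of `Ly`
-/

set_option autoImplicit false

namespace CfsgLib.LyLower

open CfsgLib.LyG2 CfsgLib.CosetEnum

/-- The entries of a row are small. -/
def chkRow (v : ℕ) : Bool := (List.range 111).all fun s => Nat.blt (dig v s) 8

/-- A program followed by the chains of some primes. -/
def cert (prog : List (ℕ × ℕ)) (cs : List (ℕ × ℕ × List (ℕ × List ℕ × List (List ℕ)))) : Bool :=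
  okP prog 10 && cs.all (fun q => chkRow q.2.1) &&
  force (masks 111).hi3 fun h3 => force (masks 111).hi9 fun h9 =>
    force (Nat.mul 511 (repOne (Nat.mul 111 111))) fun l9 => force (colMask 111) fun cm =>
      force (oneX 111) fun o =>
        run 111 h3 h9 l9 cm prog (List.ofFn fun i : Fin 10 => Rep.tabs i) fun L =>
          cs.all fun q => chain 111 h3 h9 l9 cm o L q.1 q.2.1 [] [q.2.1] q.2.2

end CfsgLib.LyLower
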