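import Cfsg.Agent.LyLower.Cert

/-!
# Kernel evaluation of one part of the certificate (Two)
-/

set_option autoImplicit false

namespace CfsgLib.LyLower

theorem certTwo_ok : cert prog2 [(2, row2, links2)] = true := by decide +kernel

end CfsgLib.LyLower
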