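import Cfsg.Agent.LyLower.Program
import Mathlib.GroupTheory.QuotientGroup.Basic
import Mathlib.GroupTheory.OrderOfElement

/-!
# A checker for chains of `p`-subgroups

Every new element normalises the group of the earlier ones, has its `p`-th power there and moves a
vector outside the orbit of that group; so the order gains a factor `p` at every step.
-/

set_option autoImplicit false

namespace CfsgLib.LyLower

open CfsgLib.LyG2 CfsgLib.CosetEnum

section Group

variable {G : Type*} [Group G] [Finite G]

/-- Adjoining a normalising element with `p`-th power inside gains a factor `p`. -/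
theorem exists_extension {p : ℕ} [Fact p.Prime] (P : Subgroup G) (x : G)
    (hn : x ∈ Subgroup.normalizer (P : Set G)) (hp : x ^ p ∈ P) (hx : x ∉ P) :
    ∃ K : Subgroup G, P ≤ K ∧ x ∈ K ∧ p * Nat.card P ∣ Nat.card K ∧
      ∀ g ∈ K, ∃ q ∈ P, ∃ e < p, g = q * x ^ e := by
  set N := Subgroup.normalizer (P : Set G) with hN
  haveI : (P.subgroupOf N).Normal := Subgroup.normal_in_normalizer
  set π := QuotientGroup.mk' (P.subgroupOf N) with hπ
  have hker : ∀ y : N, π y = 1 ↔ (y : G) ∈ P := fun y => by
    rw [hπ, QuotientGroup.mk'_apply, QuotientGroup.eq_one_iff, Subgroup.mem_subgroupOf]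
  have hord : orderOf (π ⟨x, hn⟩) = p := by
    refine orderOf_eq_prime ?_ fun e => hx ((hker _).1 e)
    rw [← map_pow]; exact (hker _).2 hp
  set K₀ := (Subgroup.zpowers (π ⟨x, hn⟩)).comap π with hK₀
  refine ⟨K₀.map N.subtype, fun q hq => ?_, ?_, ?_, ?_⟩
  · exact ⟨⟨q, Subgroup.le_normalizer hq⟩, by
      rw [hK₀, SetLike.mem_coe, Subgroup.mem_comap,
        (hker ⟨q, Subgroup.le_normalizer hq⟩).2 hq]
      exact one_mem _, rfl⟩
  · exact ⟨⟨x, hn⟩, Subgroup.mem_zpowers _, rfl⟩
  · rw [Subgroup.card_map_of_injective N.subtype_injective,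
      ← Nat.card_congr (Subgroup.subgroupOfEquivOfLe (Subgroup.le_normalizer (H := P))).toEquiv]
    have hle : P.subgroupOf N ≤ K₀ := fun y hy => by
      rw [hK₀, Subgroup.mem_comap, (hker y).2 hy]
      exact one_mem _
    have h := Subgroup.relIndex_mul_relIndex ⊥ (P.subgroupOf N) K₀ bot_le hle
    rw [Subgroup.relIndex_bot_left, Subgroup.relIndex_bot_left, mul_comm] at h
    rw [← h]
    refine mul_dvd_mul_right ?_ _
    rw [show (P.subgroupOf N) = (⊥ : Subgroup _).comap π by
      rw [MonoidHom.comap_bot, hπ, QuotientGroup.ker_mk'], hK₀,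
      Subgroup.relIndex_comap, Subgroup.map_comap_eq_self_of_surjective
        (QuotientGroup.mk'_surjective _), Subgroup.relIndex_bot_left, Nat.card_zpowers, hord]
  · classical
    rintro _ ⟨y, hy, rfl⟩
    obtain ⟨e, he, heq⟩ : ∃ e < p, π y = π ⟨x, hn⟩ ^ e := by
      obtain ⟨n, hn'⟩ := mem_zpowers_iff_mem_range_orderOf.1 (Subgroup.mem_comap.1 hy) |>
        Finset.mem_image.1
      exact ⟨n, hord ▸ Finset.mem_range.1 hn'.1, hn'.2.symm⟩
    refine ⟨(y : G) * (x ^ e)⁻¹, ?_, e, he, by rw [Subgroup.coe_subtype, inv_mul_cancel_right]⟩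
    refine (hker (y * (⟨x, hn⟩ ^ e)⁻¹)).1 ?_
    rw [map_mul, map_inv, map_pow, heq, mul_inv_cancel]

/-- A finite subgroup is normalised by an element conjugating its generators into it. -/
theorem mem_normalizer_of_conj {S : Set G} {x : G}
    (h : ∀ s ∈ S, x * s * x⁻¹ ∈ Subgroup.closure S) :
    x ∈ Subgroup.normalizer (Subgroup.closure S : Set G) := by
  have hle : (Subgroup.closure S).map (MulAut.conj x).toMonoidHom ≤ Subgroup.closure S := by
    rw [MonoidHom.map_closure, Subgroup.closure_le]
    rintro _ ⟨s, hs, rfl⟩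
    exact h s hs
  have heq := Subgroup.eq_of_le_of_card_ge hle
    (le_of_eq (Subgroup.card_map_of_injective (MulAut.conj x).injective).symm)
  rw [Subgroup.mem_normalizer_iff]
  intro g
  constructor
  · exact fun hg => hle ⟨g, hg, rfl⟩
  · intro hg
    have hg' : x * g * x⁻¹ ∈ (Subgroup.closure S).map (MulAut.conj x).toMonoidHom := by
      rw [heq]; exact hg
    obtain ⟨g', hg', e⟩ := hg'
    exact (MulAut.conj x).injective e ▸ hg'

end Group

/-- The product of a word of entries, handed on. -/
def mulW (N hi3 hi9 lo9 cm one : ℕ) (L : List ℕ) : List ℕ → (ℕ → Bool) → Bool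
  | [], k => k one
  | i :: w, k => mulW N hi3 hi9 lo9 cm one L w fun c => step N hi3 hi9 lo9 cm (L.getD i 0) c k

/-- Two words of entries have one value. -/
def eqW (N hi3 hi9 lo9 cm one : ℕ) (L a b : List ℕ) : Bool :=
  mulW N hi3 hi9 lo9 cm one L a fun A => mulW N hi3 hi9 lo9 cm one L b fun B => Nat.beq A B

/-- The images of a list of rows under a matrix, handed on. -/
def vmapK (N : ℕ) (R : List ℕ) : List ℕ → (List ℕ → Bool) → Bool
  | [], k => k []
  | u :: V, k => force (vmulR N u R) fun c => vmapK N R V fun W => k (c :: W)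

/-- The images under the powers below `e + 1`, handed on. -/
def orbK (N : ℕ) (R : List ℕ) : ℕ → List ℕ → (List ℕ → Bool) → Bool
  | 0, V, k => k V
  | e + 1, V, k => vmapK N R V fun W => orbK N R e W fun U => k (V ++ U)

/-- One step of a chain: an element, its `p`-th power and its conjugates of the earlier elements as
words in these. -/
abbrev Link : Type := ℕ × List ℕ × List (List ℕ)

/-- The check of a chain. -/
def chain (N hi3 hi9 lo9 cm one : ℕ) (L : List ℕ) (p v : ℕ) :
    List ℕ → List ℕ → List Link → Bool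
  | _, _, [] => true
  | prev, V, (x, pw, cj) :: rest =>
    Nat.blt x L.length && (pw.all (fun i => Nat.blt i prev.length) &&
      (Nat.beq cj.length prev.length && (cj.all (fun w => w.all fun i => Nat.blt i prev.length) &&
        (eqW N hi3 hi9 lo9 cm one L (List.replicate p x) (pw.map fun i => prev.getD i 0) &&
          ((List.range prev.length).all (fun j =>
            eqW N hi3 hi9 lo9 cm one L [x, prev.getD j 0]
              ((cj.getD j []).map (fun i => prev.getD i 0) ++ [x])) &&
            (force (vmul N v (L.getD x 0)) (fun u => V.all fun a => neqV N a u) &&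
              (rest.isEmpty || rowsK N (L.getD x 0) N [] fun R => orbK N R (p - 1) V fun V' =>
                chain N hi3 hi9 lo9 cm one L p v (prev ++ [x]) V' rest)))))))

variable {N : ℕ} (hN : N ≤ 300) (M : Masks N)
include hN

theorem mulW_sound {one lo9 : ℕ} (hone : toX N one = 1) (hone' : ∀ s < N * N, dig one s < 8)
    (L : List ℕ) (hL : ∀ A ∈ L, ∀ s < N * N, dig A s < 8) :
    ∀ (w : List ℕ), (∀ i ∈ w, i < L.length) → ∀ (k : ℕ → Bool),
      mulW N M.hi3 M.hi9 lo9 (colMask N) one L w k = true →
      ∃ c, (w.map fun i => toX N (L.getD i 0)).prod = toX N c ∧ (∀ s < N * N, dig c s < 8) ∧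
        k c = true := by
  intro w
  induction w with
  | nil => exact fun _ k h => ⟨one, by simp [hone], hone', h⟩
  | cons i w ih =>
    intro hw k h
    obtain ⟨c, hc, hc', hk⟩ := ih (fun j hj => hw j (List.mem_cons_of_mem i hj)) _ h
    have hi := hw i List.mem_cons_self
    obtain ⟨d, hd, hd', hk'⟩ := step_sound hN M
      (hL _ (by rw [List.getD_eq_getElem _ _ hi]; exact List.getElem_mem hi)) hc' hk
    exact ⟨d, by rw [List.map_cons, List.prod_cons, hc, hd], hd', hk'⟩

theorem eqW_sound {one lo9 : ℕ} (hone : toX N one = 1) (hone' : ∀ s < N * N, dig one s < 8)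
    (L : List ℕ) (hL : ∀ A ∈ L, ∀ s < N * N, dig A s < 8) {a b : List ℕ}
    (ha : ∀ i ∈ a, i < L.length) (hb : ∀ i ∈ b, i < L.length)
    (h : eqW N M.hi3 M.hi9 lo9 (colMask N) one L a b = true) :
    (a.map fun i => toX N (L.getD i 0)).prod = (b.map fun i => toX N (L.getD i 0)).prod := by
  obtain ⟨A, hA, -, h1⟩ := mulW_sound hN M hone hone' L hL a ha _ h
  obtain ⟨B, hB, -, h2⟩ := mulW_sound hN M hone hone' L hL b hb _ h1
  rw [hA, hB, Nat.eq_of_beq_eq_true h2]

theorem vmapK_sound {X : ℕ} (hX : ∀ s < N * N, dig X s < 8) :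
    ∀ (V : List ℕ), (∀ u ∈ V, ∀ s < N, dig u s < 8) → ∀ (k : List ℕ → Bool),
      vmapK N ((List.range N).map (slice N X)) V k = true → ∃ W, (∀ u ∈ W, ∀ s < N, dig u s < 8) ∧
        (∀ u ∈ V, ∃ c ∈ W, toV N c = Matrix.vecMul (toV N u) (toX N X)) ∧ k W = true := by
  intro V
  induction V with
  | nil => exact fun _ k h => ⟨[], by simp, by simp, h⟩
  | cons u V ih =>
    intro hV k h
    simp only [vmapK, force_eq, vmulR_eq] at h
    obtain ⟨W, hW, hall, hk⟩ := ih (fun a ha => hV a (List.mem_cons_of_mem u ha)) _ h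
    obtain ⟨h1, h2⟩ := toV_vmul hN (hV u List.mem_cons_self) hX
    refine ⟨vmul N u X :: W, fun a ha => ?_, fun a ha => ?_, hk⟩
    · rcases List.mem_cons.1 ha with rfl | ha
      exacts [h2, hW a ha]
    · rcases List.mem_cons.1 ha with rfl | ha
      · exact ⟨_, List.mem_cons_self, h1⟩
      · obtain ⟨c, hc, e⟩ := hall a ha; exact ⟨c, List.mem_cons_of_mem _ hc, e⟩

theorem orbK_sound {X : ℕ} (hX : ∀ s < N * N, dig X s < 8) :
    ∀ (e : ℕ) (V : List ℕ), (∀ u ∈ V, ∀ s < N, dig u s < 8) → ∀ (k : List ℕ → Bool),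
      orbK N ((List.range N).map (slice N X)) e V k = true → ∃ W, (∀ u ∈ W, ∀ s < N, dig u s < 8) ∧
        (∀ u ∈ V, ∀ i ≤ e, ∃ c ∈ W, toV N c = Matrix.vecMul (toV N u) (toX N X ^ i)) ∧
        k W = true := by
  intro e
  induction e with
  | zero =>
    exact fun V hV k h => ⟨V, hV, fun u hu i hi => ⟨u, hu, by
      rw [Nat.le_zero.1 hi, pow_zero, Matrix.vecMul_one]⟩, h⟩
  | succ e ih =>
    intro V hV k h
    obtain ⟨W, hW, hall, h1⟩ := vmapK_sound hN hX V hV _ h
    obtain ⟨U, hU, hall', h2⟩ := ih W hW _ h1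
    refine ⟨V ++ U, fun a ha => ?_, fun u hu i hi => ?_, h2⟩
    · rcases List.mem_append.1 ha with ha | ha
      exacts [hV a ha, hU a ha]
    · cases i with
      | zero => exact ⟨u, List.mem_append_left U hu, by rw [pow_zero, Matrix.vecMul_one]⟩
      | succ i =>
        obtain ⟨c, hc, ec⟩ := hall u hu
        obtain ⟨d, hd, ed⟩ := hall' c hc i (by omega)
        exact ⟨d, List.mem_append_right V hd, by
          rw [ed, ec, Matrix.vecMul_vecMul, pow_succ']⟩

omit hN in
theorem prod_map_coe {G : Type*} [Group G] (f : G →* Matrix (Fin N) (Fin N) (ZMod 5)) (E : List G)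
    (L : List ℕ) (hE : E.map f = L.map (toX N)) {w : List ℕ} (hw : ∀ i ∈ w, i < L.length) :
    f (w.map fun i => E.getD i 1).prod = (w.map fun i => toX N (L.getD i 0)).prod := by
  rw [map_list_prod, List.map_map]
  congr 1
  refine List.map_congr_left fun i hi => ?_
  have hiL := hw i hi
  have hiE : i < E.length := by
    rw [← E.length_map f, hE, List.length_map]; exact hiL
  show f (E.getD i 1) = _
  rw [List.getD_eq_getElem _ _ hiE, List.getD_eq_getElem _ _ hiL, ← List.getElem_map f
    (h := by rwa [List.length_map]), ← List.getElem_map (toX N) (h := by rwa [List.length_map])]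
  exact List.getElem_of_eq hE _

variable {G : Type*} [Group G] [Finite G] (f : G →* Matrix (Fin N) (Fin N) (ZMod 5))

theorem chain_sound (hf : Function.Injective f) {p : ℕ} [Fact p.Prime] {one lo9 v : ℕ}
    (hone : toX N one = 1) (hone' : ∀ s < N * N, dig one s < 8) (hv : ∀ s < N, dig v s < 8)
    (E : List G) (L : List ℕ) (hE : E.map f = L.map (toX N))
    (hL : ∀ A ∈ L, ∀ s < N * N, dig A s < 8) :
    ∀ (links : List Link) (prev V : List ℕ) (P : Subgroup G) (n : ℕ),
      (∀ i ∈ prev, i < L.length) → P = Subgroup.closure {g | ∃ i ∈ prev, g = E.getD i 1} →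
      n ∣ Nat.card P → (∀ u ∈ V, ∀ s < N, dig u s < 8) →
      (∀ g ∈ P, ∃ u ∈ V, toV N u = Matrix.vecMul (toV N v) (f g)) →
      chain N M.hi3 M.hi9 lo9 (colMask N) one L p v prev V links = true →
      n * p ^ links.length ∣ Nat.card G := by
  intro links
  induction links with
  | nil =>
    exact fun _ _ P n _ _ hn _ _ _ => by
      simpa using hn.trans (Subgroup.card_subgroup_dvd_card P)
  | cons l links ih =>
    obtain ⟨x, pw, cj⟩ := l
    intro prev V P n hprev hP hn hV horb h
    simp only [chain, Bool.and_eq_true, force_eq, List.all_eq_true, List.mem_range] at h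
    obtain ⟨hx, hpw, hlen, hcj, hpow, hconj, hmove, hrest⟩ := h
    have hxL : x < L.length := Nat.le_of_ble_eq_true hx
    have hget : ∀ i, i < prev.length → prev.getD i 0 ∈ prev := fun i hi => by
      rw [List.getD_eq_getElem _ _ hi]; exact List.getElem_mem hi
    have hword : ∀ w : List ℕ, (∀ i ∈ w, i < prev.length) →
        (∀ i ∈ w.map (fun i => prev.getD i 0), i < L.length) ∧
        ((w.map fun i => prev.getD i 0).map fun i => E.getD i 1).prod ∈ P := by
      intro w hw
      refine ⟨fun i hi => ?_, P.list_prod_mem fun g hg => ?_⟩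
      · obtain ⟨j, hj, rfl⟩ := List.mem_map.1 hi
        exact hprev _ (hget j (hw j hj))
      · obtain ⟨i, hi, rfl⟩ := List.mem_map.1 hg
        obtain ⟨j, hj, rfl⟩ := List.mem_map.1 hi
        rw [hP]
        exact Subgroup.subset_closure ⟨_, hget j (hw j hj), rfl⟩
    set xg := E.getD x 1 with hxg
    have hfx : f xg = toX N (L.getD x 0) := by
      have := prod_map_coe f E L hE (w := [x]) (by simpa using hxL)
      simpa only [List.map_cons, List.map_nil, List.prod_cons, List.prod_nil, mul_one] using this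
    -- the power
    have hpowP : xg ^ p ∈ P := by
      obtain ⟨h1, h2⟩ := hword pw fun i hi => Nat.le_of_ble_eq_true (hpw i hi)
      have e := eqW_sound hN M hone hone' L hL
        (fun i hi => (List.eq_of_mem_replicate hi) ▸ hxL) h1 hpow
      rw [← prod_map_coe f E L hE (fun i hi => (List.eq_of_mem_replicate hi) ▸ hxL),
        ← prod_map_coe f E L hE h1, List.map_replicate, List.prod_replicate] at e
      rwa [hxg, hf e]
    -- the conjugates
    have hnorm : xg ∈ Subgroup.normalizer (P : Set G) := by
      rw [hP]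
      refine mem_normalizer_of_conj ?_
      rintro _ ⟨i, hi, rfl⟩
      obtain ⟨j, hj, rfl⟩ := List.getElem_of_mem hi
      obtain ⟨h1, h2⟩ := hword (cj.getD j []) (fun i hi => Nat.le_of_ble_eq_true (hcj _ (by
        rw [List.getD_eq_getElem _ _ (by rw [Nat.eq_of_beq_eq_true hlen]; exact hj)]
        exact List.getElem_mem _) i hi))
      have ha : ∀ i ∈ [x, prev.getD j 0], i < L.length := by
        intro i hi
        rcases List.mem_cons.1 hi with rfl | hi
        · exact hxL
        · rw [List.mem_singleton.1 hi]; exact hprev _ (hget j hj)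
      have hb : ∀ i ∈ (cj.getD j []).map (fun i => prev.getD i 0) ++ [x], i < L.length := by
        intro i hi
        rcases List.mem_append.1 hi with hi | hi
        · exact h1 i hi
        · rw [List.mem_singleton.1 hi]; exact hxL
      have e := eqW_sound hN M hone hone' L hL ha hb (hconj j hj)
      rw [← prod_map_coe f E L hE ha, ← prod_map_coe f E L hE hb] at e
      have e' := hf e
      simp only [List.map_cons, List.map_nil, List.prod_cons, List.prod_nil, mul_one,
        List.map_append, List.prod_append, ← hxg, List.getD_eq_getElem prev _ hj] at e'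
      rw [e', mul_inv_cancel_right, ← hP]
      exact h2
    -- the vector
    have hLx : ∀ s < N * N, dig (L.getD x 0) s < 8 :=
      hL _ (by rw [List.getD_eq_getElem _ _ hxL]; exact List.getElem_mem hxL)
    have hxP : xg ∉ P := fun hm => by
      obtain ⟨u, hu, e⟩ := horb xg hm
      refine neqV_sound (hmove u hu) ?_
      rw [e, hfx, (toV_vmul hN hv hLx).1]
    obtain ⟨K, hPK, hxK, hcard, hform⟩ := exists_extension P xg hnorm hpowP hxP
    rw [List.length_cons, pow_succ']
    rw [Bool.or_eq_true, List.isEmpty_iff] at hrest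
    rcases hrest with rfl | hrest
    · rw [List.length_nil, pow_zero, mul_one, mul_comm]
      exact ((mul_dvd_mul_left p hn).trans hcard).trans (Subgroup.card_subgroup_dvd_card K)
    have hrows := rowsK_sound _ _ _ _ _ hrest
    rw [List.append_nil] at hrows
    obtain ⟨W, hW, hall, hk⟩ := orbK_sound hN hLx (p - 1) V hV _ hrows
    have := ih (prev ++ [x]) W K (p * n) (fun i hi => ?_) ?_ ((mul_dvd_mul_left p hn).trans hcard)
      hW ?_ hk
    · rwa [show n * (p * p ^ links.length) = p * n * p ^ links.length by ring]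
    · rcases List.mem_append.1 hi with hi | hi
      · exact hprev i hi
      · rw [List.mem_singleton.1 hi]; exact hxL
    · refine le_antisymm (fun g hg => ?_) ((Subgroup.closure_le _).2 ?_)
      · obtain ⟨q, hq, e, -, rfl⟩ := hform g hg
        have hmem : xg ∈ {g | ∃ i ∈ prev ++ [x], g = E.getD i 1} :=
          ⟨x, List.mem_append_right prev List.mem_cons_self, rfl⟩
        refine mul_mem ?_ (pow_mem (Subgroup.subset_closure hmem) e)
        rw [hP] at hq
        refine Subgroup.closure_mono ?_ hq
        rintro g ⟨i, hi, rfl⟩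
        exact ⟨i, List.mem_append_left [x] hi, rfl⟩
      · rintro g ⟨i, hi, rfl⟩
        rcases List.mem_append.1 hi with hi | hi
        · exact hPK (hP ▸ Subgroup.subset_closure ⟨i, hi, rfl⟩)
        · rw [List.mem_singleton.1 hi]; exact hxK
    · intro g hg
      obtain ⟨q, hq, e, he, rfl⟩ := hform g hg
      obtain ⟨u, hu, eu⟩ := horb q hq
      obtain ⟨c, hc, ec⟩ := hall u hu e (by omega)
      exact ⟨c, hc, by rw [ec, eu, map_mul, map_pow, hfx, Matrix.vecMul_vecMul]⟩

end CfsgLib.LyLower
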