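import Cfsg.Agent.LyG2.Packed

/-!
# Straight-line programs of packed matrices over `ZMod 5`, and orbits of one vector

A program lists pairs of positions; each pair appends a product. All products are evaluated once.
-/

set_option autoImplicit false

namespace CfsgLib.LyLower

open CfsgLib.LyG2 CfsgLib.CosetEnum Finset

/-- The product of two packed matrices, reduced, handed on after a check of the reduction. -/
def step (N hi3 hi9 lo9 cm A X : ℕ) (k : ℕ → Bool) : Bool :=
  force (macc N (cols N cm A) X 0) fun acc =>
    force (Nat.land (Nat.shiftRight (Nat.mul acc 6554) 15) lo9) fun q =>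
      Nat.ble (Nat.mul 5 q) acc && force (Nat.sub acc (Nat.mul 5 q)) fun c =>
        Nat.beq (Nat.land c hi3) 0 && (Nat.beq (Nat.land q hi9) 0 && k c)

/-- A program: each pair appends the product of two earlier entries. -/
def run (N hi3 hi9 lo9 cm : ℕ) : List (ℕ × ℕ) → List ℕ → (List ℕ → Bool) → Bool
  | [], L, k => k L
  | (i, j) :: P, L, k =>
    step N hi3 hi9 lo9 cm (L.getD i 0) (L.getD j 0) fun c => run N hi3 hi9 lo9 cm P (L ++ [c]) k

/-- The same program in any monoid. -/
def evalP {M : Type*} [Monoid M] : List (ℕ × ℕ) → List M → List M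
  | [], L => L
  | (i, j) :: P, L => evalP P (L ++ [L.getD i 1 * L.getD j 1])

/-- The positions used by a program are defined. -/
def okP : List (ℕ × ℕ) → ℕ → Bool
  | [], _ => true
  | (i, j) :: P, n => Nat.blt i n && (Nat.blt j n && okP P (n + 1))

variable {N : ℕ} (hN : N ≤ 300)
include hN

theorem step_sound (M : Masks N) {lo9 A X : ℕ} (hA : ∀ s < N * N, dig A s < 8)
    (hX : ∀ s < N * N, dig X s < 8) {k : ℕ → Bool}
    (h : step N M.hi3 M.hi9 lo9 (colMask N) A X k = true) :
    ∃ c, toX N A * toX N X = toX N c ∧ (∀ s < N * N, dig c s < 8) ∧ k c = true := by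
  simp only [step, force_eq, Bool.and_eq_true] at h
  obtain ⟨h1, h2, h3, h4⟩ := h
  obtain ⟨hmul, hc⟩ := toX_mul_toX hN M hA hX (Nat.sub_add_cancel (Nat.le_of_ble_eq_true h1))
    (Nat.eq_of_beq_eq_true h2) (Nat.eq_of_beq_eq_true h3)
  exact ⟨_, hmul, hc, h4⟩

theorem run_sound (M : Masks N) {lo9 : ℕ} {k : List ℕ → Bool} :
    ∀ (P : List (ℕ × ℕ)) (L : List ℕ) (U : List (Matrix (Fin N) (Fin N) (ZMod 5))),
      okP P L.length = true → U = L.map (toX N) → (∀ A ∈ L, ∀ s < N * N, dig A s < 8) →
      run N M.hi3 M.hi9 lo9 (colMask N) P L k = true →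
      ∃ L' : List ℕ, evalP P U = L'.map (toX N) ∧ (∀ A ∈ L', ∀ s < N * N, dig A s < 8) ∧
        k L' = true := by
  intro P
  induction P with
  | nil => exact fun L U _ hU hL h => ⟨L, hU, hL, h⟩
  | cons p P ih =>
    obtain ⟨i, j⟩ := p
    intro L U hok hU hL h
    simp only [okP, Bool.and_eq_true] at hok
    have hi : i < L.length := Nat.le_of_ble_eq_true hok.1
    have hj : j < L.length := Nat.le_of_ble_eq_true hok.2.1
    obtain ⟨c, hc, hc', hk⟩ := step_sound hN M
      (hL _ (by rw [List.getD_eq_getElem _ _ hi]; exact List.getElem_mem hi))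
      (hL _ (by rw [List.getD_eq_getElem _ _ hj]; exact List.getElem_mem hj)) h
    refine ih (L ++ [c]) _ (by rw [List.length_append]; exact hok.2.2) ?_ (fun A hA => ?_) hk
    · rw [List.map_append, hU, List.map_cons, List.map_nil,
        List.getD_eq_getElem _ _ (by rwa [List.length_map]),
        List.getD_eq_getElem _ _ (by rwa [List.length_map]), List.getElem_map, List.getElem_map,
        ← hc, List.getD_eq_getElem _ _ hi, List.getD_eq_getElem _ _ hj]
    · rcases List.mem_append.1 hA with hA | hA
      · exact hL A hA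
      · rw [List.mem_singleton.1 hA]; exact hc'

omit hN

theorem length_evalP {M : Type*} [Monoid M] : ∀ (P : List (ℕ × ℕ)) (L : List M),
    (evalP P L).length = L.length + P.length
  | [], L => rfl
  | (i, j) :: P, L => by
    rw [evalP, length_evalP P, List.length_append, List.length_singleton, List.length_cons]
    omega

theorem evalP_map {M M' : Type*} [Monoid M] [Monoid M'] (f : M →* M') :
    ∀ (P : List (ℕ × ℕ)) (L : List M), evalP P (L.map f) = (evalP P L).map f
  | [], _ => rfl
  | (i, j) :: P, L => by
    have e : ∀ i, (L.map f).getD i 1 = f (L.getD i 1) := fun i => by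
      conv_lhs => rw [← map_one f, List.getD_map]
    rw [evalP, evalP, e, e, ← map_mul, ← evalP_map f P, List.map_append, List.map_cons, List.map_nil]

/-- The vector of a packed row. -/
def toV (N v : ℕ) : Fin N → ZMod 5 := fun j => (dig v j.val : ZMod 5)

/-- A packed row times a packed matrix: the rows are added with the entries as coefficients. -/
def vmac (N v X : ℕ) : ℕ := macc N ((List.range N).map (dig v)) X 0

/-- Reduction of every slot. -/
def redV (N v : ℕ) : ℕ :=
  List.rec (fun _ => 0) (fun _ _ ih v =>
    Nat.add (Nat.mod (Nat.land v 16777215) 5) (Nat.mul 16777216 (ih (Nat.shiftRight v 24))))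
    (List.range N) v

/-- A row times a matrix, reduced. -/
def vmul (N v X : ℕ) : ℕ := redV N (vmac N v X)

/-- All rows of a packed matrix, handed on. -/
def rowsK (N X : ℕ) : ℕ → List ℕ → (List ℕ → Bool) → Bool
  | 0, R, k => k R
  | j + 1, R, k => force (slice N X j) fun r => rowsK N X j (r :: R) k

/-- The sum of rows with given coefficients. -/
def dotR : List ℕ → List ℕ → ℕ
  | c :: cs, r :: R => Nat.add (Nat.mul c r) (dotR cs R)
  | _, _ => 0

/-- A row times a matrix given by its rows, reduced. -/
def vmulR (N v : ℕ) (R : List ℕ) : ℕ := redV N (dotR ((List.range N).map (dig v)) R)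

theorem rowsK_sound (N X : ℕ) : ∀ (j : ℕ) (R : List ℕ) (k : List ℕ → Bool),
    rowsK N X j R k = true → k ((List.range j).map (slice N X) ++ R) = true
  | 0, R, k, h => by simpa [rowsK] using h
  | j + 1, R, k, h => by
    simp only [rowsK, force_eq] at h
    have := rowsK_sound N X j _ k h
    rw [List.range_succ, List.map_append, List.map_cons, List.map_nil, List.append_assoc]
    exact this

theorem dotR_eq (N X : ℕ) : ∀ (cs : List ℕ) (j : ℕ),
    dotR cs ((List.range' j cs.length).map (slice N X)) = macc N cs X j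
  | [], _ => rfl
  | c :: cs, j => by
    rw [List.length_cons, List.range'_succ, List.map_cons, dotR, macc, dotR_eq N X cs (j + 1)]

theorem vmulR_eq (N v X : ℕ) : vmulR N v ((List.range N).map (slice N X)) = vmul N v X := by
  have := dotR_eq N X ((List.range N).map (dig v)) 0
  rw [List.length_map, List.length_range, ← List.range_eq_range'] at this
  rw [vmulR, vmul, vmac, this]

/-- Two packed rows differ somewhere. -/
def neqV (N a b : ℕ) : Bool :=
  (List.range N).any fun s => !(Nat.beq (dig a s % 5) (dig b s % 5))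

theorem neqV_sound {a b : ℕ} (h : neqV N a b = true) : toV N a ≠ toV N b := by
  simp only [neqV, List.any_eq_true, List.mem_range, Bool.not_eq_true'] at h
  obtain ⟨s, hs, hne⟩ := h
  intro e
  have := (ZMod.natCast_eq_natCast_iff' _ _ _).1 (congrFun e ⟨s, hs⟩)
  rw [this, Nat.beq_refl] at hne
  exact Bool.noConfusion hne

theorem redV_spec : ∀ (l : List ℕ) (v : ℕ), ∀ s < l.length,
    dig (List.rec (fun _ => 0) (fun _ _ ih v =>
      Nat.add (Nat.mod (Nat.land v 16777215) 5) (Nat.mul 16777216 (ih (Nat.shiftRight v 24)))) l v) s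
      = dig v s % 5 := by
  intro l
  induction l with
  | nil => exact fun v s hs => absurd hs (Nat.not_lt_zero s)
  | cons x l ih =>
    intro v s hs
    have hlt : (v &&& 16777215) % 5 < 16777216 := by omega
    show dig ((v &&& 16777215) % 5 + 16777216 * _) s = _
    cases s with
    | zero =>
      rw [dig_eq, pow_zero, Nat.div_one, Nat.add_mul_mod_self_left, Nat.mod_eq_of_lt hlt]
      simp [dig]
    | succ s =>
      have hs' : s < l.length := by simpa using hs
      rw [dig_eq, pow_succ', ← Nat.div_div_eq_div_mul, Nat.add_mul_div_left _ _ (by norm_num),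
        Nat.div_eq_of_lt hlt, zero_add, ← dig_eq, ih _ s hs']
      congr 1
      rw [dig_eq, dig_eq, pow_succ', ← Nat.div_div_eq_div_mul]
      show (v >>> 24) / _ % _ = _
      rw [Nat.shiftRight_eq_div_pow]

include hN

theorem toV_vmul {v X : ℕ} (hv : ∀ s < N, dig v s < 8) (hX : ∀ s < N * N, dig X s < 8) :
    toV N (vmul N v X) = Matrix.vecMul (toV N v) (toX N X) ∧
      ∀ s < N, dig (vmul N v X) s < 8 := by
  set f : ℕ → ℕ := fun k => ∑ j ∈ range N, dig v j * dig X (j * N + k) with hf
  have hacc : vmac N v X = pack f N := by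
    rw [vmac, macc_eq, List.length_map, List.length_range, pack]
    have : ∀ u < N, ((List.range N).map (dig v)).getD u 0 * slice N X u =
        ∑ k ∈ range N, dig v u * dig X (u * N + k) * base ^ k := by
      intro u hu
      rw [List.getD_eq_getElem _ _ (by simp [hu]), List.getElem_map, List.getElem_range]
      conv_lhs => rw [← pack_dig N (slice N X u) (by rw [slice_eq]; exact Nat.mod_lt _ (by positivity))]
      rw [pack, mul_sum]
      refine sum_congr rfl fun k hk => ?_
      rw [dig_slice N X u k (mem_range.1 hk)]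
      ring
    rw [sum_congr rfl fun u hu => by rw [zero_add, this u (mem_range.1 hu)], sum_comm]
    exact sum_congr rfl fun k _ => by rw [← sum_mul]
  have hfb : ∀ k < N, f k < base := by
    intro k hk
    refine lt_of_le_of_lt (Finset.sum_le_card_nsmul _ _ 49 fun j hj => ?_) ?_
    · refine Nat.mul_le_mul (Nat.lt_succ_iff.1 (hv j (mem_range.1 hj)))
        (Nat.lt_succ_iff.1 (hX _ ?_))
      calc j * N + k < (j + 1) * N := by rw [add_one_mul]; omega
        _ ≤ N * N := Nat.mul_le_mul_right N (mem_range.1 hj)
    · simp only [card_range, smul_eq_mul, base]; omega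
  have hd : ∀ s < N, dig (vmul N v X) s = f s % 5 := fun s hs => by
    rw [vmul, redV, redV_spec _ _ s (by simpa using hs), hacc, dig_pack _ _ hfb _ hs]
  refine ⟨funext fun j => ?_, fun s hs => by rw [hd s hs]; omega⟩
  show ((dig (vmul N v X) j.val : ℕ) : ZMod 5) = _
  rw [hd _ j.isLt, ZMod.natCast_mod]
  simp only [hf, Nat.cast_sum, Nat.cast_mul, Matrix.vecMul, dotProduct, toV, toX, Matrix.of_apply]
  rw [Fin.sum_univ_eq_sum_range fun i => ((dig v i : ℕ) : ZMod 5) * ((dig X (i * N + j.val) : ℕ) : ZMod 5)]

end CfsgLib.LyLower
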